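import Groth.Agent.HSLib.Samuel
import Groth.Agent.LinType.Basic
import Mathlib

/-! The Hilbert–Samuel function of a regular local ring. -/

universe u

open IsLocalRing MvPolynomial

namespace Groth.Agent.HSLib

variable {A : Type u} [CommRing A]

theorem length_residueField [IsLocalRing A] : Module.length A (ResidueField A) = 1 := by
  have : IsSimpleModule A (ResidueField A) :=
    isSimpleModule_iff_isCoatom.2 (maximalIdeal.isMaximal A).out
  exact Module.length_eq_one A (ResidueField A)

theorem card_degree_eq {n : ℕ} (s : ℕ) :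
    Nat.card {d : Fin n →₀ ℕ // d.degree = s} = (n + s - 1).choose s := by
  classical
  rw [Nat.card_congr (Equiv.subtypeEquivRight (q := fun d => d ∈ (Finset.univ : Finset (Fin n)).finsuppAntidiag s)
    fun d => by simp [Finset.mem_finsuppAntidiag, Finsupp.degree_eq_sum]), Nat.card_eq_finsetCard,
    Finset.card_finsuppAntidiag_nat_eq_choose, Finset.card_univ, Fintype.card_fin]

/-- The graded pieces along a weakly regular sequence generating the maximal ideal are free. -/
theorem qlen_pow [IsLocalRing A] {n : ℕ} (a : Fin n → A)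
    (ha : RingTheory.Sequence.IsWeaklyRegular A (List.ofFn a))
    (hm : Ideal.span (Set.range a) = maximalIdeal A) (s : ℕ) :
    qlen (maximalIdeal A ^ s • (⊤ : Submodule A A)) (maximalIdeal A ^ (s + 1) • (⊤ : Submodule A A)) =
      ((n + s - 1).choose s : ℕ) := by
  classical
  set m := maximalIdeal A with hmdef
  have hpre : LinType.pre a n = m := by
    rw [← hm, LinType.pre]
    congr 1
    ext y
    simp only [Set.mem_image, Set.mem_setOf_eq, Set.mem_range]
    exact ⟨fun ⟨i, _, e⟩ => ⟨i, e⟩, fun ⟨i, e⟩ => ⟨i, i.2, e⟩⟩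
  let H := homogeneousSubmodule (Fin n) A s
  let ev : MvPolynomial (Fin n) A →ₗ[A] A := (aeval a : MvPolynomial (Fin n) A →ₐ[A] A).toLinearMap
  have hev : Submodule.map ev H = m ^ s • (⊤ : Submodule A A) := by
    rw [show H = LinType.lin n ^ s from LinType.homogeneous_eq s, LinType.map_lin_pow, hpre, smul_eq_mul,
      Ideal.mul_top]
  let N₁ : Submodule A A := m ^ s • (⊤ : Submodule A A)
  let N₂ : Submodule A A := m ^ (s + 1) • (⊤ : Submodule A A)
  have hN₂ : N₂ = (m ^ (s + 1) : Ideal A) := by rw [show N₂ = m ^ (s+1) • ⊤ from rfl, smul_eq_mul, Ideal.mul_top]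
  let g : H →ₗ[A] N₁ := (ev.comp H.subtype).codRestrict N₁ fun P => hev.le ⟨P, P.2, rfl⟩
  let q : H →ₗ[A] N₁ ⧸ N₂.comap N₁.subtype := (N₂.comap N₁.subtype).mkQ ∘ₗ g
  let h : H →ₗ[A] ({d : Fin n →₀ ℕ // d.degree = s} → ResidueField A) :=
    LinearMap.pi fun d => (Algebra.linearMap A (ResidueField A)) ∘ₗ (lcoeff A d.1) ∘ₗ H.subtype
  have hq : Function.Surjective q := by
    refine (Submodule.mkQ_surjective _).comp fun y => ?_
    obtain ⟨P, hP, hPy⟩ := hev.ge y.2
    exact ⟨⟨P, hP⟩, Subtype.ext hPy⟩
  haveI : Finite {d : Fin n →₀ ℕ // d.degree = s} := by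
    refine Finite.of_equiv ((Finset.univ : Finset (Fin n)).finsuppAntidiag s) (Equiv.subtypeEquivRight
      fun d => by simp [Finset.mem_finsuppAntidiag, Finsupp.degree_eq_sum])
  haveI := Fintype.ofFinite {d : Fin n →₀ ℕ // d.degree = s}
  have hh : Function.Surjective h := fun c => by
    choose c' hc' using fun d => Ideal.Quotient.mk_surjective (I := m) (c d)
    refine ⟨⟨∑ d, monomial d.1 (c' d), Submodule.sum_mem _ fun d _ => isHomogeneous_monomial _ d.2⟩, ?_⟩
    funext e
    have : (∑ d, monomial d.1 (c' d)).coeff e.1 = c' e := by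
      rw [coeff_sum, Finset.sum_eq_single e (fun d _ hd => by
        rw [coeff_monomial, if_neg (fun h => hd (Subtype.ext h))]) (by simp), coeff_monomial, if_pos rfl]
    show algebraMap A (ResidueField A) ((∑ d, monomial d.1 (c' d)).coeff e.1) = c e
    rw [this]
    exact hc' e
  have hker : LinearMap.ker q = LinearMap.ker h := by
    ext ⟨P, hP⟩
    simp only [q, LinearMap.mem_ker, LinearMap.comp_apply, Submodule.mkQ_apply, Submodule.Quotient.mk_eq_zero,
      Submodule.mem_comap]
    rw [_root_.funext_iff]
    change aeval a P ∈ N₂ ↔ ∀ d : {d : Fin n →₀ ℕ // d.degree = s},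
      Ideal.Quotient.mk m (P.coeff d.1) = 0
    simp only [Ideal.Quotient.eq_zero_iff_mem, hN₂]
    constructor
    · intro hx d
      have := LinType.quasiRegular a ha (hP : P.IsHomogeneous s) (d := s) (by
        rw [hm]; exact hx) d.1
      rwa [hm] at this
    · intro hc
      rw [P.as_sum, map_sum]
      refine Ideal.sum_mem _ fun d hd => ?_
      have hdeg : d.degree = s := by
        have := (hP : P.IsHomogeneous s) (mem_support_iff.mp hd)
        rw [Finsupp.degree_eq_weight_one]; exact this
      rw [← mul_one (P.coeff d), ← smul_eq_mul, ← smul_monomial, map_smul, smul_eq_mul, pow_succ']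
      refine Ideal.mul_mem_mul (hc ⟨d, hdeg⟩) ?_
      have : aeval a (monomial d (1 : A)) ∈ Submodule.map ev H := ⟨_, isHomogeneous_monomial _ hdeg, rfl⟩
      rwa [hev, smul_eq_mul, Ideal.mul_top] at this
  have e := ((LinearMap.quotKerEquivOfSurjective q hq).symm.trans (Submodule.quotEquivOfEq _ _ hker)).trans
    (LinearMap.quotKerEquivOfSurjective h hh)
  show Module.length A (N₁ ⧸ N₂.comap N₁.subtype) = _
  rw [e.length_eq, Module.length_pi, length_residueField, mul_one, ENat.card_eq_coe_fintype_card,
    ← Nat.card_eq_fintype_card, card_degree_eq]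

theorem length_regular [IsLocalRing A] {n : ℕ} (a : Fin n → A)
    (ha : RingTheory.Sequence.IsWeaklyRegular A (List.ofFn a))
    (hm : Ideal.span (Set.range a) = maximalIdeal A) : ∀ s : ℕ,
    Module.length A (A ⧸ maximalIdeal A ^ (s + 1)) = ((s + n).choose s : ℕ) := by
  have key : ∀ s : ℕ, Module.length A (A ⧸ (maximalIdeal A ^ (s + 1) • (⊤ : Submodule A A))) =
      ((s + n).choose s : ℕ) := by
    intro s
    induction s with
    | zero =>
      rw [pow_one, smul_eq_mul, Ideal.mul_top, Nat.choose_zero_right]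
      exact length_residueField
    | succ s ih =>
      rw [length_quot_eq_add (N₁ := maximalIdeal A ^ (s + 1) • (⊤ : Submodule A A))
        (Submodule.smul_mono_left (Ideal.pow_le_pow_right (by omega))), ih, qlen_pow a ha hm (s + 1)]
      rw [← Nat.cast_add]
      congr 1
      rw [show s + 1 + n = (s + n).succ by omega, Nat.choose_succ_succ', show n + (s + 1) - 1 = s + n by omega]
      ring
  intro s
  have := key s
  rwa [smul_eq_mul, Ideal.mul_top] at this

end Groth.Agent.HSLib
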