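import Mathlib

/-!
Numerical functions that are eventually polynomial.
-/

set_option autoImplicit false

open Polynomial Filter

namespace Groth.Agent.HSLib

/-- `f` agrees with `P` for large arguments. -/
def EvPoly (f : ℕ → ℕ) (P : ℚ[X]) : Prop := ∀ᶠ n in atTop, (f n : ℚ) = P.eval (n : ℚ)

theorem exists_antidiff : ∀ (s : ℕ) (P : ℚ[X]), P.degree < s →
    ∃ Q : ℚ[X], Q.degree < (s + 1 : ℕ) ∧ ∀ y : ℚ, Q.eval (y + 1) - Q.eval y = P.eval y := by
  intro s
  induction s with
  | zero =>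
    intro P hP
    have : P = 0 := degree_eq_bot.mp (Nat.WithBot.lt_zero_iff.mp hP)
    exact ⟨0, by simp, fun y => by simp [this]⟩
  | succ s ih =>
    intro P hP
    set c := P.coeff s / (s + 1 : ℚ)
    set P' := P - C c * ((X + 1) ^ (s + 1) - X ^ (s + 1)) with hP'def
    have hP' : P'.degree < s := by
      rw [degree_lt_iff_coeff_zero]
      intro m hm
      rw [hP'def, coeff_sub, coeff_C_mul, coeff_sub, coeff_X_add_one_pow, coeff_X_pow]
      rcases hm.lt_or_eq with hm | rfl
      · have h0 : P.coeff m = 0 := (degree_lt_iff_coeff_zero _ _).mp hP m hm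
        rcases (Nat.succ_le_of_lt hm).lt_or_eq with hm' | hm'
        · rw [h0, Nat.choose_eq_zero_of_lt hm', if_neg (by omega)]
          simp
        · rw [h0, ← hm']
          simp
      · rw [Nat.choose_succ_self_right, if_neg (by omega)]
        simp only [c, Nat.cast_add, Nat.cast_one, sub_zero]
        field_simp
        ring
    obtain ⟨Q, hQ, hQe⟩ := ih P' hP'
    refine ⟨Q + C c * X ^ (s + 1), ?_, fun y => ?_⟩
    · refine lt_of_le_of_lt (degree_add_le _ _) (max_lt (hQ.trans (by exact_mod_cast Nat.lt_succ_self _)) ?_)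
      exact lt_of_le_of_lt (degree_C_mul_X_pow_le _ _) (by exact_mod_cast Nat.lt_succ_self _)
    · have := hQe y
      simp only [hP'def, eval_sub, eval_mul, eval_C, eval_pow, eval_add, eval_X, eval_one] at this
      simp only [eval_add, eval_mul, eval_C, eval_pow, eval_X]
      linear_combination this

theorem exists_evPoly_of_diff {g : ℕ → ℕ} {P : ℚ[X]} {s : ℕ} (hP : P.degree < s)
    (h : ∀ᶠ n in atTop, (g (n + 1) : ℚ) - g n = P.eval (n : ℚ)) :
    ∃ Q : ℚ[X], Q.degree < (s + 1 : ℕ) ∧ EvPoly g Q := by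
  obtain ⟨Q, hQ, hQe⟩ := exists_antidiff s P hP
  obtain ⟨N, hN⟩ := eventually_atTop.mp h
  refine ⟨Q + C ((g N : ℚ) - Q.eval (N : ℚ)), lt_of_le_of_lt (degree_add_le _ _) (max_lt hQ ?_),
    eventually_atTop.mpr ⟨N, fun n hn => ?_⟩⟩
  · exact lt_of_le_of_lt degree_C_le (by exact_mod_cast Nat.succ_pos s)
  induction n, hn using Nat.le_induction with
  | base => simp
  | succ n hn ihn =>
    have h1 := hN n hn
    have h2 := hQe n
    simp only [eval_add, eval_C] at ihn ⊢
    push_cast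
    linarith

theorem natDegree_le_of_eventually_le {f g : ℕ → ℕ} {P Q : ℚ[X]} (hf : EvPoly f P) (hg : EvPoly g Q)
    (h : ∀ᶠ n in atTop, f n ≤ g n) : P.natDegree ≤ Q.natDegree := by
  by_contra hlt
  push Not at hlt
  have hne : ∀ᶠ n : ℕ in atTop, P.eval (n : ℚ) ≠ 0 := by
    have hP0 : P ≠ 0 := ne_zero_of_natDegree_gt hlt
    exact (tendsto_natCast_atTop_atTop (R := ℚ)).eventually
      (Polynomial.eventually_atTop_not_isRoot P hP0)
  have ht := (Polynomial.div_tendsto_atTop_zero_of_degree_lt Q P (degree_lt_degree hlt)).comp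
    (tendsto_natCast_atTop_atTop (R := ℚ))
  have h1 : ∀ᶠ n : ℕ in atTop, Q.eval (n : ℚ) / P.eval (n : ℚ) < 1 := ht.eventually (eventually_lt_nhds zero_lt_one)
  obtain ⟨n, hn1, hn2, hn3, hn4, hn5⟩ := (h1.and (hne.and (h.and (hf.and hg)))).exists
  have hpos : 0 < P.eval (n : ℚ) := lt_of_le_of_ne (hn4 ▸ Nat.cast_nonneg _) (Ne.symm hn2)
  rw [div_lt_one hpos, ← hn4, ← hn5] at hn1
  exact absurd (Nat.cast_lt.mp hn1) (not_lt.mpr hn3)

theorem natDegree_shift_lt (P : ℚ[X]) (k : ℚ) (hP : 0 < P.natDegree) :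
    (P - P.comp (X - C k)).natDegree < P.natDegree := by
  have hdeg : (P.comp (X - C k)).natDegree = P.natDegree := by
    rw [natDegree_comp, natDegree_X_sub_C, mul_one]
  by_cases h0 : P - P.comp (X - C k) = 0
  · rw [h0, natDegree_zero]; exact hP
  rw [← Nat.cast_lt (α := WithBot ℕ), ← degree_eq_natDegree h0, ← degree_eq_natDegree (ne_zero_of_natDegree_gt hP)]
  have hne := ne_zero_of_natDegree_gt hP
  refine degree_sub_lt_left ?_ hne ?_
  · have hne' : P.comp (X - C k) ≠ 0 := ne_zero_of_natDegree_gt (n := 0) (by rwa [hdeg])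
    rw [degree_eq_natDegree hne, degree_eq_natDegree hne', hdeg]
  · rw [leadingCoeff_comp (by rw [natDegree_X_sub_C]; exact one_ne_zero), leadingCoeff_X_sub_C, one_pow, mul_one]

end Groth.Agent.HSLib
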