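import Mathlib
import Groth.Agent.HSLib.Poly

/-!
The Hilbert function of a pair of filtrations, the larger one being stable, is eventually polynomial.
-/

set_option autoImplicit false
set_option linter.style.haveILetI false

universe u v

open Polynomial Filter

namespace Groth.Agent.HSLib

variable {A : Type u} [CommRing A] {M : Type v} [AddCommGroup M] [Module A M]

/-- The length of `Q / P`. -/
noncomputable def qlen (Q P : Submodule A M) : ℕ∞ := Module.length A (Q ⧸ P.comap Q.subtype)

theorem qlen_add {P K Q : Submodule A M} (h1 : P ≤ K) (h2 : K ≤ Q) :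
    qlen Q P = qlen K P + qlen Q K := by
  refine Module.length_eq_add_of_exact
    (Submodule.mapQ (P.comap K.subtype) (P.comap Q.subtype) (Submodule.inclusion h2) (fun z hz => hz))
    (Submodule.factor (Submodule.comap_mono h1)) ?_ (Submodule.factor_surjective _) ?_
  · rw [← LinearMap.ker_eq_bot, Submodule.ker_mapQ, eq_bot_iff, Submodule.map_le_iff_le_comap]
    intro z hz
    rw [Submodule.mem_comap, Submodule.mkQ_apply, Submodule.mem_bot, Submodule.Quotient.mk_eq_zero]
    exact hz
  · intro y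
    obtain ⟨⟨m, hm⟩, rfl⟩ := Submodule.Quotient.mk_surjective _ y
    constructor
    · intro h
      rw [Submodule.factor, Submodule.mapQ_apply, LinearMap.id_apply, Submodule.Quotient.mk_eq_zero] at h
      exact ⟨Submodule.Quotient.mk ⟨m, h⟩, rfl⟩
    · rintro ⟨z, hz⟩
      obtain ⟨⟨k, hk⟩, rfl⟩ := Submodule.Quotient.mk_surjective _ z
      rw [← hz, Submodule.factor, Submodule.mapQ_apply, Submodule.mapQ_apply, LinearMap.id_apply,
        Submodule.Quotient.mk_eq_zero]
      exact hk

theorem qlen_self (P : Submodule A M) : qlen P P = 0 := by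
  rw [qlen, Module.length_eq_zero_iff, Submodule.Quotient.subsingleton_iff]
  exact Submodule.comap_subtype_self P

theorem qlen_eq_zero_of_le {Q P : Submodule A M} (h : Q ≤ P) : qlen Q P = 0 := by
  rw [qlen, Module.length_eq_zero_iff, Submodule.Quotient.subsingleton_iff, eq_top_iff]
  exact fun z _ => h z.2

theorem qlen_comap (x : A) (Q P' : Submodule A M) :
    qlen Q (Q ⊓ P'.comap (LinearMap.lsmul A M x)) = qlen (P' ⊔ Q.map (LinearMap.lsmul A M x)) P' := by
  set C := P' ⊔ Q.map (LinearMap.lsmul A M x) with hC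
  let φ : Q →ₗ[A] C := LinearMap.codRestrict C ((LinearMap.lsmul A M x).comp Q.subtype)
    (fun q => Submodule.mem_sup_right ⟨q, q.2, rfl⟩)
  let ψ : Q →ₗ[A] C ⧸ P'.comap C.subtype := (P'.comap C.subtype).mkQ.comp φ
  have hψ : Function.Surjective ψ := by
    intro y
    obtain ⟨⟨m, hm⟩, rfl⟩ := Submodule.Quotient.mk_surjective _ y
    obtain ⟨a, ha, b, ⟨q, hq, rfl⟩, rfl⟩ := Submodule.mem_sup.mp hm
    refine ⟨⟨q, hq⟩, (Submodule.Quotient.eq _).mpr ?_⟩
    show LinearMap.lsmul A M x q - (a + LinearMap.lsmul A M x q) ∈ P'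
    rw [sub_add_cancel_right]
    exact neg_mem ha
  have hker : LinearMap.ker ψ = (Q ⊓ P'.comap (LinearMap.lsmul A M x)).comap Q.subtype := by
    ext q
    simp [ψ, φ]
  exact ((Submodule.quotEquivOfEq _ _ hker.symm).trans (ψ.quotKerEquivOfSurjective hψ)).length_eq

variable [IsNoetherianRing A] [Module.Finite A M] {I : Ideal A}

theorem smul_mem_succ (F : I.Filtration M) {x : A} (hx : x ∈ I) {t : ℕ} {m : M} (hm : m ∈ F.N t) :
    x • m ∈ F.N (t + 1) := F.smul_le t (Submodule.smul_mem_smul hx hm)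

theorem hilbert {s : ℕ} (x : Fin s → A) (hI : I = Ideal.span (Set.range x)) :
    ∀ j : ℕ, j ≤ s → ∀ Q P : I.Filtration M, Q.Stable → (∀ t, P.N t ≤ Q.N t) →
      (∀ t, qlen (Q.N t) (P.N t) ≠ ⊤) →
      (∀ i : Fin s, j ≤ i → ∀ t, ∀ m ∈ Q.N t, x i • m ∈ P.N (t + 1)) →
      ∃ R : ℚ[X], R.degree < j ∧ EvPoly (fun t => (qlen (Q.N t) (P.N t)).toNat) R := by
  intro j
  induction j with
  | zero =>
    intro _ Q P hQ hPQ _ hx
    refine ⟨0, by simp, ?_⟩
    obtain ⟨n₀, hn₀⟩ := hQ
    refine eventually_atTop.mpr ⟨n₀ + 1, fun t ht => ?_⟩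
    obtain ⟨t, rfl⟩ : ∃ t', t = t' + 1 := ⟨t - 1, by omega⟩
    have hle : Q.N (t + 1) ≤ P.N (t + 1) := by
      rw [← hn₀ t (by omega), Submodule.smul_le]
      intro a ha m hm
      rw [hI] at ha
      induction ha using Submodule.span_induction with
      | mem _ h => obtain ⟨i, rfl⟩ := h; exact hx i (Nat.zero_le _) t m hm
      | zero => rw [zero_smul]; exact zero_mem _
      | add a b _ _ ha hb => rw [add_smul]; exact add_mem ha hb
      | smul c a _ ha => rw [smul_eq_mul, mul_smul]; exact Submodule.smul_mem _ c ha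
    simp [qlen_eq_zero_of_le hle]
  | succ j ih =>
    intro hj Q P hQ hPQ hfin hx
    set e := x ⟨j, by omega⟩
    set L := LinearMap.lsmul A M e
    have heI : e ∈ I := hI ▸ Ideal.subset_span ⟨_, rfl⟩
    have hmap : ∀ (N : Submodule A M), (I • N).map L = I • N.map L := fun N => Submodule.map_smul'' I N L
    let K : I.Filtration M :=
      { N := fun t => Q.N t ⊓ (P.N (t + 1)).comap L
        mono := fun t => inf_le_inf (Q.mono t) (Submodule.comap_mono (P.mono (t + 1)))
        smul_le := fun t => by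
          refine le_inf ((Submodule.smul_mono le_rfl inf_le_left).trans (Q.smul_le t)) ?_
          rw [← Submodule.map_le_iff_le_comap, hmap]
          exact (Submodule.smul_mono le_rfl (Submodule.map_le_iff_le_comap.mpr inf_le_right)).trans (P.smul_le (t + 1)) }
    let C : I.Filtration M :=
      { N := fun t => P.N t ⊔ (Q.N (t - 1)).map L
        mono := fun t => sup_le_sup (P.mono t) (Submodule.map_mono (Q.antitone (by omega)))
        smul_le := fun t => by
          rw [Submodule.smul_sup, ← hmap]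
          exact sup_le_sup (P.smul_le t) (Submodule.map_mono ((Q.smul_le (t - 1)).trans (Q.antitone (by omega)))) }
    have hPK : ∀ t, P.N t ≤ K.N t := fun t =>
      le_inf (hPQ t) (fun m hm => smul_mem_succ P heI hm)
    have hKQ : ∀ t, K.N t ≤ Q.N t := fun t => inf_le_left
    have hPC : ∀ t, P.N t ≤ C.N t := fun t => le_sup_left
    have hCQ : ∀ t, C.N t ≤ Q.N t := fun t => by
      refine sup_le (hPQ t) ?_
      rintro _ ⟨m, hm, rfl⟩
      exact Q.antitone (show t ≤ t - 1 + 1 by omega) (smul_mem_succ Q heI hm)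
    have hadd1 : ∀ t, qlen (Q.N t) (P.N t) = qlen (K.N t) (P.N t) + qlen (Q.N t) (K.N t) := fun t =>
      qlen_add (hPK t) (hKQ t)
    have hadd2 : ∀ t, qlen (Q.N t) (P.N t) = qlen (C.N t) (P.N t) + qlen (Q.N t) (C.N t) := fun t =>
      qlen_add (hPC t) (hCQ t)
    have hfK : ∀ t, qlen (K.N t) (P.N t) ≠ ⊤ := fun t h => hfin t (by rw [hadd1 t, h, top_add])
    have hfQC : ∀ t, qlen (Q.N t) (C.N t) ≠ ⊤ := fun t h => hfin t (by rw [hadd2 t, h, add_top])
    have hcross : ∀ t, qlen (Q.N t) (K.N t) = qlen (C.N (t + 1)) (P.N (t + 1)) := fun t =>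
      qlen_comap e (Q.N t) (P.N (t + 1))
    obtain ⟨R₁, hR₁, hR₁e⟩ := ih (by omega) K P (hQ.of_le hKQ) hPK hfK (fun i hi t m hm => by
      rcases hi.lt_or_eq with hi' | hi'
      · exact hx i hi' t m hm.1
      · have he : i = ⟨j, by omega⟩ := Fin.ext hi'.symm
        rw [he]
        exact hm.2)
    obtain ⟨R₂, hR₂, hR₂e⟩ := ih (by omega) Q C hQ hCQ hfQC (fun i hi t m hm => by
      rcases hi.lt_or_eq with hi' | hi'
      · exact hPC _ (hx i hi' t m hm)
      · have he : i = ⟨j, by omega⟩ := Fin.ext hi'.symm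
        rw [he]
        exact Submodule.mem_sup_right ⟨m, hm, rfl⟩)
    refine exists_evPoly_of_diff (P := R₂.comp (Polynomial.X + 1) - R₁) ?_ ?_
    · refine lt_of_le_of_lt (degree_sub_le _ _) (max_lt ?_ hR₁)
      rcases eq_or_ne R₂ 0 with rfl | h0
      · simpa using hR₂
      refine lt_of_le_of_lt (degree_le_natDegree) ?_
      rw [natDegree_comp, show (Polynomial.X + 1 : ℚ[X]).natDegree = 1 from natDegree_X_add_C 1, mul_one,
        ← degree_eq_natDegree h0]
      exact hR₂
    · have hR₂' := (tendsto_add_atTop_nat 1).eventually hR₂e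
      filter_upwards [hR₁e, hR₂'] with t h1 h2
      have hc : qlen (Q.N t) (K.N t) ≠ ⊤ := fun h => hfin t (by rw [hadd1 t, h, add_top])
      have key : (qlen (Q.N (t + 1)) (P.N (t + 1))).toNat + (qlen (K.N t) (P.N t)).toNat =
          (qlen (Q.N t) (P.N t)).toNat + (qlen (Q.N (t + 1)) (C.N (t + 1))).toNat := by
        rw [hadd2 (t + 1), hadd1 t, ← hcross, ENat.toNat_add hc (hfQC _), ENat.toNat_add (hfK t) hc]
        ring
      have key' := congrArg (fun n : ℕ => (n : ℚ)) key
      push_cast at key' h1 h2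
      rw [eval_sub, eval_comp, eval_add, eval_X, eval_one, ← h1, ← h2]
      linarith

end Groth.Agent.HSLib
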