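import Mathlib
import Groth.Agent.HSLib.Filtration

/-!
The degree of the Hilbert–Samuel polynomial of a semi-local ring is the dimension.
-/

set_option autoImplicit false
set_option linter.style.haveILetI false

universe u

open Polynomial Filter

namespace Groth.Agent.HSLib

variable {A : Type u} [CommRing A] [IsNoetherianRing A]

theorem length_ne_top_of_forall_isMaximal {N : Type u} [AddCommGroup N] [Module A N] [Module.Finite A N]
    (h : ∀ p ∈ Module.support A N, p.asIdeal.IsMaximal) : Module.length A N ≠ ⊤ := by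
  revert h
  refine IsNoetherianRing.induction_on_isQuotientEquivQuotientPrime (A := A) (M := N) ‹_›
    (motive := fun N _ _ _ => (∀ p ∈ Module.support A N, p.asIdeal.IsMaximal) → Module.length A N ≠ ⊤)
    ?_ ?_ ?_
  · intro N _ _ _ _ _
    rw [Module.length_eq_zero]
    simp
  · intro N _ _ _ q e hN
    have hq : q ∈ Module.support A N := by
      rw [e.support_eq, Module.support_eq_zeroLocus, Ideal.annihilator_quotient]
      exact fun _ hx => hx
    have hmax := hN q hq
    have : IsSimpleModule A (A ⧸ q.asIdeal) := isSimpleModule_iff_isCoatom.2 hmax.out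
    rw [e.length_eq, Module.length_eq_one]
    simp
  · intro N₁ _ _ _ N₂ _ _ _ N₃ _ _ _ f g hf hg hfg h1 h3 hN
    rw [Module.length_eq_add_of_exact f g hf hg hfg]
    exact WithTop.add_ne_top.mpr ⟨h1 fun q hq => hN q (Module.support_subset_of_injective f hf hq),
      h3 fun q hq => hN q (Module.support_subset_of_surjective g hg hq)⟩

/-- The primes of the support containing `I` are maximal. -/
def MaxSupp (I : Ideal A) (M : Type u) [AddCommGroup M] [Module A M] : Prop :=
  ∀ p ∈ Module.support A M, I ≤ p.asIdeal → p.asIdeal.IsMaximal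

/-- The Hilbert–Samuel function. -/
noncomputable def hs (I : Ideal A) (M : Type u) [AddCommGroup M] [Module A M] (t : ℕ) : ℕ :=
  (Module.length A (M ⧸ (I ^ t • (⊤ : Submodule A M)))).toNat

variable {M : Type u} [AddCommGroup M] [Module A M] [Module.Finite A M] {I : Ideal A}

theorem length_quot_ne_top (hmax : MaxSupp I M) {t : ℕ} {N : Submodule A M}
    (hN : I ^ t • (⊤ : Submodule A M) ≤ N) : Module.length A (M ⧸ N) ≠ ⊤ :=
  length_ne_top_of_forall_isMaximal fun p hp => hmax p (Module.support_subset_of_surjective N.mkQ N.mkQ_surjective hp)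
    (p.2.le_of_pow_le (n := t) fun r hr => Module.annihilator_le_of_mem_support hp (Module.mem_annihilator.mpr fun m => by
      obtain ⟨m, rfl⟩ := Submodule.Quotient.mk_surjective _ m
      rw [← Submodule.Quotient.mk_smul, Submodule.Quotient.mk_eq_zero]
      exact hN (Submodule.smul_mem_smul hr trivial)))

omit [IsNoetherianRing A] [Module.Finite A M] in
theorem length_quot_eq_add {N₁ N₂ : Submodule A M} (h : N₂ ≤ N₁) :
    Module.length A (M ⧸ N₂) = qlen N₁ N₂ + Module.length A (M ⧸ N₁) := by
  refine Module.length_eq_add_of_exact (Submodule.mapQ (N₂.comap N₁.subtype) N₂ N₁.subtype le_rfl)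
    (Submodule.factor h) ?_ (Submodule.factor_surjective h) ?_
  · rw [← LinearMap.ker_eq_bot, Submodule.ker_mapQ, Submodule.mkQ_map_self]
  · intro y
    obtain ⟨m, rfl⟩ := Submodule.Quotient.mk_surjective _ y
    constructor
    · intro h'
      rw [Submodule.factor, Submodule.mapQ_apply, LinearMap.id_apply, Submodule.Quotient.mk_eq_zero] at h'
      exact ⟨Submodule.Quotient.mk ⟨m, h'⟩, rfl⟩
    · rintro ⟨z, hz⟩
      obtain ⟨⟨k, hk⟩, rfl⟩ := Submodule.Quotient.mk_surjective _ z
      rw [← hz, Submodule.factor, Submodule.mapQ_apply, Submodule.mapQ_apply, LinearMap.id_apply,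
        Submodule.Quotient.mk_eq_zero]
      exact hk

/-- The Hilbert–Samuel function is eventually polynomial. -/
theorem exists_poly {s : ℕ} (x : Fin s → A) (hmax : MaxSupp (Ideal.span (Set.range x)) M) :
    ∃ R : ℚ[X], R.natDegree ≤ s ∧ EvPoly (hs (Ideal.span (Set.range x)) M) R := by
  set I := Ideal.span (Set.range x)
  let Q : I.Filtration M := I.stableFiltration ⊤
  let P : I.Filtration M :=
    { N := fun t => Q.N (t + 1)
      mono := fun t => Q.mono (t + 1)
      smul_le := fun t => Q.smul_le (t + 1) }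
  have hsplit : ∀ t, Module.length A (M ⧸ (I ^ (t + 1) • (⊤ : Submodule A M))) =
      qlen (Q.N t) (P.N t) + Module.length A (M ⧸ (I ^ t • (⊤ : Submodule A M))) := fun t =>
    length_quot_eq_add (Q.mono t)
  have hne : ∀ t, Module.length A (M ⧸ (I ^ t • (⊤ : Submodule A M))) ≠ ⊤ := fun t => length_quot_ne_top hmax le_rfl
  have hqfin : ∀ t, qlen (Q.N t) (P.N t) ≠ ⊤ := fun t h => hne (t + 1) (by rw [hsplit t, h, top_add])
  obtain ⟨R, hR, hRe⟩ := hilbert x rfl s le_rfl Q P (I.stableFiltration_stable ⊤) (fun t => Q.mono t)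
    hqfin (fun i hi => absurd hi (by omega))
  obtain ⟨R', hR', hR'e⟩ := exists_evPoly_of_diff (g := hs I M) hR (hRe.mono fun t ht => by
    rw [← ht, hs, hs, hsplit t, ENat.toNat_add (hqfin t) (hne t)]
    push_cast
    ring)
  refine ⟨R', ?_, hR'e⟩
  rcases eq_or_ne R' 0 with rfl | h0
  · simp
  rw [degree_eq_natDegree h0, Nat.cast_lt] at hR'
  omega

theorem hs_pos [Nontrivial M] (hmax : MaxSupp I M) (hI : I ≤ Ring.jacobson A) {t : ℕ} (ht : 1 ≤ t) :
    1 ≤ hs I M t := by
  have hlt : I ^ t • (⊤ : Submodule A M) ≠ ⊤ := fun h => by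
    have h' : (⊤ : Submodule A M) ≤ Ring.jacobson A • ⊤ := by
      conv_lhs => rw [← h]
      exact Submodule.smul_mono ((Ideal.pow_le_self (by omega)).trans hI) le_rfl
    have hbot := Submodule.eq_bot_of_le_smul_of_le_jacobson_bot (Ring.jacobson A) (⊤ : Submodule A M)
      Module.Finite.fg_top h' (Ring.jacobson_eq_sInf_isMaximal A ▸ le_of_eq (by rw [Ideal.jacobson]; simp))
    exact top_ne_bot hbot
  haveI := Submodule.Quotient.nontrivial_iff.mpr hlt
  rw [hs, Nat.one_le_iff_ne_zero]
  intro h
  rcases ENat.toNat_eq_zero.mp h with h' | h'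
  · exact (Module.length_pos (R := A) (M := M ⧸ (I ^ t • (⊤ : Submodule A M)))).ne' h'
  · exact length_quot_ne_top hmax le_rfl h'

theorem exact_bound (hmax : MaxSupp I M) {M' M'' : Type u} [AddCommGroup M'] [Module A M'] [Module.Finite A M']
    [AddCommGroup M''] [Module A M''] (f : M' →ₗ[A] M) (g : M →ₗ[A] M'')
    (hf : Function.Injective f) (hg : Function.Surjective g) (hfg : LinearMap.range f = LinearMap.ker g) :
    ∃ k : ℕ, ∀ t, hs I M' t + hs I M'' (t + k) ≤ hs I M (t + k) := by
  obtain ⟨k, hk⟩ := I.exists_pow_inf_eq_pow_smul (LinearMap.range f)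
  refine ⟨k, fun t => ?_⟩
  have hgI : I ^ (t + k) • (⊤ : Submodule A M) ≤ (I ^ (t + k) • (⊤ : Submodule A M'')).comap g := by
    rw [← Submodule.map_le_iff_le_comap, Submodule.map_smul'']
    exact Submodule.smul_mono le_rfl le_top
  have hlow : (I ^ (t + k) • (⊤ : Submodule A M)).comap f ≤ I ^ t • (⊤ : Submodule A M') := fun x hx => by
    have h1 : f x ∈ I ^ (t + k) • ⊤ ⊓ LinearMap.range f := ⟨hx, ⟨x, rfl⟩⟩
    rw [hk (t + k) (Nat.le_add_left k t), Nat.add_sub_cancel] at h1
    obtain ⟨x', hx', he⟩ : f x ∈ (I ^ t • (⊤ : Submodule A M')).map f := by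
      rw [Submodule.map_smul'', Submodule.map_top]
      exact Submodule.smul_mono le_rfl inf_le_right h1
    exact hf he ▸ hx'
  have hadd : Module.length A (M ⧸ (I ^ (t + k) • (⊤ : Submodule A M))) =
      Module.length A (M' ⧸ (I ^ (t + k) • (⊤ : Submodule A M)).comap f) +
        Module.length A (M'' ⧸ (I ^ (t + k) • (⊤ : Submodule A M''))) := by
    refine Module.length_eq_add_of_exact (Submodule.mapQ _ _ f le_rfl) (Submodule.mapQ _ _ g hgI) ?_ ?_ ?_
    · rw [← LinearMap.ker_eq_bot, Submodule.ker_mapQ, Submodule.mkQ_map_self]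
    · intro y
      obtain ⟨y, rfl⟩ := Submodule.Quotient.mk_surjective _ y
      obtain ⟨x, rfl⟩ := hg y
      exact ⟨Submodule.Quotient.mk x, rfl⟩
    · intro y
      obtain ⟨m, rfl⟩ := Submodule.Quotient.mk_surjective _ y
      constructor
      · intro hm
        rw [Submodule.mapQ_apply, Submodule.Quotient.mk_eq_zero] at hm
        have e : I ^ (t + k) • (⊤ : Submodule A M'') = (I ^ (t + k) • (⊤ : Submodule A M)).map g := by
          rw [Submodule.map_smul'', Submodule.map_top, LinearMap.range_eq_top.2 hg]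
        obtain ⟨m₀, hm₀, hgm⟩ := e.le hm
        obtain ⟨x, hx⟩ := hfg.ge (show m - m₀ ∈ LinearMap.ker g by rw [LinearMap.mem_ker, map_sub, hgm, sub_self])
        refine ⟨Submodule.Quotient.mk x, ?_⟩
        rw [Submodule.mapQ_apply, hx, Submodule.Quotient.eq]
        simpa using hm₀
      · rintro ⟨z, hz⟩
        obtain ⟨x, rfl⟩ := Submodule.Quotient.mk_surjective _ z
        rw [← hz, Submodule.mapQ_apply, Submodule.mapQ_apply, Submodule.Quotient.mk_eq_zero,
          show g (f x) = 0 from hfg.le ⟨x, rfl⟩]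
        exact zero_mem _
  have hM := length_quot_ne_top hmax (le_refl (I ^ (t + k) • (⊤ : Submodule A M)))
  rw [hadd] at hM
  obtain ⟨h1, h2⟩ := WithTop.add_ne_top.mp hM
  rw [hs, hs, hs, hadd, ENat.toNat_add h1 h2]
  exact Nat.add_le_add_right (ENat.toNat_le_toNat (Module.length_le_of_surjective (Submodule.factor hlow)
    (Submodule.factor_surjective hlow)) h1) _

variable [Finite (MaximalSpectrum A)]

theorem isMaximal_of_jacobson_le {p : Ideal A} [hp : p.IsPrime] (h : Ring.jacobson A ≤ p) : p.IsMaximal := by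
  haveI : Fintype (MaximalSpectrum A) := Fintype.ofFinite _
  have hle : Finset.univ.inf (fun m : MaximalSpectrum A => m.asIdeal) ≤ p := fun a ha => h (by
    rw [Ring.jacobson_eq_sInf_isMaximal, Submodule.mem_sInf]
    intro m hm
    exact Submodule.mem_finsetInf.mp ha ⟨m, hm⟩ (Finset.mem_univ _))
  obtain ⟨m, -, hm⟩ := hp.inf_le'.mp hle
  exact (m.isMaximal.eq_of_le hp.ne_top hm) ▸ m.isMaximal

theorem maxSupp_jacobson (M : Type u) [AddCommGroup M] [Module A M] : MaxSupp (Ring.jacobson A) M :=
  fun _ _ h => isMaximal_of_jacobson_le h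

theorem exists_poly_jacobson (M : Type u) [AddCommGroup M] [Module A M] [Module.Finite A M] :
    ∃ R : ℚ[X], EvPoly (hs (Ring.jacobson A) M) R := by
  obtain ⟨s, x, hx⟩ := Submodule.fg_iff_exists_fin_generating_family.mp (IsNoetherian.noetherian (Ring.jacobson A))
  have hx' : Ideal.span (Set.range x) = Ring.jacobson A := hx
  obtain ⟨R, -, hR⟩ := exists_poly x (M := M) (hx'.symm ▸ maxSupp_jacobson M)
  exact ⟨R, hx' ▸ hR⟩

/-- Chains above `q` are no longer than the degree. -/
theorem length_le_natDegree : ∀ (n : ℕ) (q : PrimeSpectrum A) (R : ℚ[X]),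
    EvPoly (hs (Ring.jacobson A) (A ⧸ q.asIdeal)) R → ∀ c : Fin (n + 1) → PrimeSpectrum A, StrictMono c →
      q ≤ c 0 → n ≤ R.natDegree := by
  intro n
  induction n with
  | zero => intros; exact Nat.zero_le _
  | succ n ih =>
    intro q R hR c hc hq
    set J := Ring.jacobson A
    set q' := c 1 with hq'def
    have hlt : q < q' := lt_of_le_of_lt hq (hc (Fin.succ_pos 0))
    obtain ⟨x, hxq', hxq⟩ := SetLike.exists_of_lt (show q.asIdeal < q'.asIdeal from hlt)
    let f : (A ⧸ q.asIdeal) →ₗ[A] (A ⧸ q.asIdeal) := LinearMap.lsmul A _ x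
    let N := (A ⧸ q.asIdeal) ⧸ LinearMap.range f
    have hf : Function.Injective f := by
      refine (injective_iff_map_eq_zero _).2 fun a ha => ?_
      obtain ⟨a, rfl⟩ := Ideal.Quotient.mk_surjective a
      rw [LinearMap.lsmul_apply, Algebra.smul_def, Ideal.Quotient.algebraMap_eq, ← map_mul,
        Ideal.Quotient.eq_zero_iff_mem] at ha
      exact Ideal.Quotient.eq_zero_iff_mem.2 ((q.2.mem_or_mem ha).resolve_left hxq)
    obtain ⟨k, hk⟩ := exact_bound (M := A ⧸ q.asIdeal) (maxSupp_jacobson (A ⧸ q.asIdeal)) f (LinearMap.range f).mkQ hf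
      (Submodule.mkQ_surjective _) (Submodule.ker_mkQ _).symm
    let g : N →ₗ[A] (A ⧸ q'.asIdeal) := (LinearMap.range f).liftQ (Submodule.factor hlt.le) (by
      rintro _ ⟨a, rfl⟩
      obtain ⟨a, rfl⟩ := Submodule.Quotient.mk_surjective _ a
      show Submodule.factor hlt.le (x • Submodule.Quotient.mk a) = 0
      rw [map_smul, Submodule.factor, Submodule.mapQ_apply, LinearMap.id_apply, ← Submodule.Quotient.mk_smul,
        Submodule.Quotient.mk_eq_zero]
      exact Ideal.mul_mem_right a _ hxq')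
    have hg : Function.Surjective g := fun y => by
      obtain ⟨a, rfl⟩ := Submodule.factor_surjective (show q.asIdeal ≤ q'.asIdeal from hlt.le) y
      exact ⟨Submodule.Quotient.mk a, rfl⟩
    obtain ⟨RN, hRN⟩ := exists_poly_jacobson (A := A) N
    obtain ⟨R', hR'⟩ := exists_poly_jacobson (A := A) (A ⧸ q'.asIdeal)
    have hstep : n ≤ R'.natDegree := ih q' R' hR' (fun i => c i.succ) (hc.comp (Fin.strictMono_succ)) le_rfl
    have hle : ∀ t, hs J (A ⧸ q'.asIdeal) t ≤ hs J N t := fun t => by
      have hsub : J ^ t • (⊤ : Submodule A N) ≤ (J ^ t • (⊤ : Submodule A (A ⧸ q'.asIdeal))).comap g := by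
        rw [← Submodule.map_le_iff_le_comap, Submodule.map_smul'']
        exact Submodule.smul_mono le_rfl le_top
      refine ENat.toNat_le_toNat (Module.length_le_of_surjective (Submodule.mapQ _ _ g hsub) (fun y => ?_))
        (length_quot_ne_top (maxSupp_jacobson N) le_rfl)
      obtain ⟨y, rfl⟩ := Submodule.Quotient.mk_surjective _ y
      obtain ⟨z, rfl⟩ := hg y
      exact ⟨Submodule.Quotient.mk z, rfl⟩
    have hdeg1 : R'.natDegree ≤ RN.natDegree := natDegree_le_of_eventually_le hR' hRN (Eventually.of_forall hle)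
    have hev : ∀ᶠ t in atTop, hs J (A ⧸ q.asIdeal) (t - k) + hs J N t ≤ hs J (A ⧸ q.asIdeal) t ∧
        ((hs J (A ⧸ q.asIdeal) t - hs J (A ⧸ q.asIdeal) (t - k) : ℕ) : ℚ) =
          (R - R.comp (Polynomial.X - Polynomial.C (k : ℚ))).eval (t : ℚ) := by
      filter_upwards [eventually_ge_atTop k, hR, (tendsto_sub_atTop_nat k).eventually hR] with t htk h1 h2
      have h := hk (t - k)
      rw [Nat.sub_add_cancel htk] at h
      refine ⟨h, ?_⟩
      rw [Nat.cast_sub (le_of_add_le_left h), h1, h2, Nat.cast_sub htk]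
      simp [Polynomial.eval_comp]
    have hdeg2 : RN.natDegree ≤ (R - R.comp (Polynomial.X - Polynomial.C (k : ℚ))).natDegree :=
      natDegree_le_of_eventually_le hRN
        (g := fun t => hs J (A ⧸ q.asIdeal) t - hs J (A ⧸ q.asIdeal) (t - k)) (hev.mono fun t ht => ht.2)
        (hev.mono fun t ht => Nat.le_sub_of_add_le ((add_comm _ _).trans_le ht.1))
    by_cases h0 : R.natDegree = 0
    · exfalso
      haveI : Nontrivial (A ⧸ q'.asIdeal) := Ideal.Quotient.nontrivial_iff.2 q'.2.ne_top
      haveI : Nontrivial N := hg.nontrivial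
      obtain ⟨t, ⟨ht, heq⟩, ht1⟩ := (hev.and (eventually_ge_atTop 1)).exists
      have hpos := hs_pos (I := J) (M := N) (maxSupp_jacobson N) le_rfl ht1
      have hC : R - R.comp (Polynomial.X - Polynomial.C (k : ℚ)) = 0 := by
        obtain ⟨a, ha⟩ := Polynomial.natDegree_eq_zero.mp h0
        rw [← ha, Polynomial.C_comp, sub_self]
      rw [hC, Polynomial.eval_zero, Nat.cast_eq_zero] at heq
      omega
    · have := natDegree_shift_lt R (k : ℚ) (Nat.pos_of_ne_zero h0)
      omega

theorem supportDim_le_natDegree (M : Type u) [AddCommGroup M] [Module A M] [Module.Finite A M] (R : ℚ[X])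
    (hR : EvPoly (hs (Ring.jacobson A) M) R) : Module.supportDim A M ≤ R.natDegree := by
  refine iSup_le fun l => ?_
  have hann : Module.annihilator A M ≤ (l.toFun 0).1.asIdeal :=
    Module.annihilator_le_of_mem_support (l.toFun 0).2
  haveI := (l.toFun 0).1.2
  obtain ⟨q, hq, hql⟩ := Ideal.exists_minimalPrimes_le hann
  obtain ⟨hqp, x, hx⟩ : q.IsPrime ∧ ∃ x : M, q = (⊥ : Submodule A M).colon {x} :=
    isAssociatedPrime_iff.mp (Module.associatedPrimes.minimalPrimes_annihilator_subset_associatedPrimes A M hq)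
  let f : (A ⧸ q) →ₗ[A] M := Submodule.liftQ q (LinearMap.toSpanSingleton A M x) (fun a ha => by
    rw [hx] at ha
    simpa [Submodule.mem_colon_singleton] using ha)
  have hf : Function.Injective f := by
    rw [← LinearMap.ker_eq_bot, Submodule.ker_liftQ_eq_bot]
    intro a ha
    rw [hx]
    simpa [Submodule.mem_colon_singleton] using ha
  obtain ⟨k, hk⟩ := exact_bound (maxSupp_jacobson M) f (LinearMap.range f).mkQ hf (Submodule.mkQ_surjective _)
    (Submodule.ker_mkQ _).symm
  obtain ⟨Rq, hRq⟩ := exists_poly_jacobson (A := A) (A ⧸ q)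
  have hdeg : Rq.natDegree ≤ (R.comp (Polynomial.X + Polynomial.C (k : ℚ))).natDegree := by
    refine natDegree_le_of_eventually_le hRq (g := fun t => hs (Ring.jacobson A) M (t + k)) ?_
      (Eventually.of_forall fun t => le_of_add_le_left (hk t))
    filter_upwards [(tendsto_add_atTop_nat k).eventually hR] with t ht
    rw [ht]
    simp [Polynomial.eval_comp]
  rw [Polynomial.natDegree_comp, Polynomial.natDegree_X_add_C, mul_one] at hdeg
  have hlen := length_le_natDegree l.length ⟨q, hqp⟩ Rq hRq (fun i => (l.toFun i).1)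
    (fun i j hij => l.strictMono hij) hql
  exact_mod_cast hlen.trans hdeg

/-- Parameters. -/
theorem exists_params : ∀ (d : ℕ) (J : Ideal A), ringKrullDim (A ⧸ J) ≤ (d : WithBot ℕ∞) →
    ∃ x : Fin d → A, (∀ i, x i ∈ Ring.jacobson A) ∧
      ∀ p : PrimeSpectrum A, J ≤ p.asIdeal → Ideal.span (Set.range x) ≤ p.asIdeal → p.asIdeal.IsMaximal := by
  intro d
  induction d with
  | zero =>
    intro J hJ
    refine ⟨Fin.elim0, fun i => i.elim0, fun p hp _ => ?_⟩
    rw [ringKrullDim_quotient] at hJ
    have hmax : IsMax (⟨p, hp⟩ : PrimeSpectrum.zeroLocus (J : Set A)) :=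
      Order.krullDim_nonpos_iff_forall_isMax.mp (by simpa using hJ) _
    obtain ⟨m, hm, hpm⟩ := Ideal.exists_le_maximal p.asIdeal p.2.ne_top
    have heq : (⟨p, hp⟩ : PrimeSpectrum.zeroLocus (J : Set A)) = ⟨⟨m, hm.isPrime⟩, hp.trans hpm⟩ :=
      le_antisymm hpm (hmax (b := ⟨⟨m, hm.isPrime⟩, hp.trans hpm⟩) hpm)
    have : p.asIdeal = m := congrArg (fun z : PrimeSpectrum.zeroLocus (J : Set A) => z.1.asIdeal) heq
    exact this ▸ hm
  | succ d ih =>
    intro J hJ
    classical
    have hfin := Ideal.finite_minimalPrimes_of_isNoetherianRing A J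
    set S := hfin.toFinset.filter fun q => ¬ q.IsMaximal with hS
    obtain ⟨x₀, hx₀, hx₀S⟩ : ∃ x₀ ∈ Ring.jacobson A, ∀ q ∈ S, x₀ ∉ q := by
      by_contra hcon
      push Not at hcon
      have hsub : (Ring.jacobson A : Set A) ⊆ ⋃ q ∈ (S : Set (Ideal A)), (q : Set A) := fun a ha => by
        obtain ⟨q, hq, haq⟩ := hcon a ha
        exact Set.mem_iUnion₂.mpr ⟨q, hq, haq⟩
      obtain ⟨q, hq, hle⟩ := (Ideal.subset_union_prime ⊤ ⊤ (fun q hq _ _ => (hfin.mem_toFinset.mp (Finset.mem_filter.mp hq).1).1.1)).mp hsub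
      haveI : q.IsPrime := (hfin.mem_toFinset.mp (Finset.mem_filter.mp hq).1).1.1
      exact (Finset.mem_filter.mp hq).2 (isMaximal_of_jacobson_le hle)
    obtain ⟨x, hx, hxp⟩ := ih (J ⊔ Ideal.span {x₀}) (by
      rw [ringKrullDim_quotient] at hJ ⊢
      refine iSup_le fun l => ?_
      have hmem : ∀ i, J ≤ (l.toFun i).1.asIdeal := fun i => le_sup_left.trans (l.toFun i).2
      haveI := (l.toFun 0).1.2
      obtain ⟨q, hq, hql⟩ := Ideal.exists_minimalPrimes_le (hmem 0)
      by_cases hqm : q.IsMaximal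
      · have hlen : l.length = 0 := by
          by_contra hne
          have h01 : (l.toFun 0).1.asIdeal < (l.toFun ⟨1, by omega⟩).1.asIdeal :=
            l.strictMono (show (0 : Fin (l.length + 1)) < ⟨1, by omega⟩ from Nat.zero_lt_one)
          have hq0 := hqm.eq_of_le (l.toFun 0).1.2.ne_top hql
          rw [← hq0] at h01
          exact (l.toFun ⟨1, by omega⟩).1.2.ne_top (hqm.out.2 _ h01)
        simp [hlen]
      · let q₀ : PrimeSpectrum.zeroLocus (J : Set A) := ⟨⟨q, hq.1.1⟩, hq.1.2⟩
        let l' : LTSeries (PrimeSpectrum.zeroLocus (J : Set A)) :=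
          { length := l.length
            toFun := fun i => ⟨(l.toFun i).1, hmem i⟩
            step := fun i => l.step i }
        have hlt : q₀ < l'.head := by
          refine lt_of_le_of_ne (show q₀ ≤ l'.head from hql) fun he => ?_
          refine hx₀S q (Finset.mem_filter.mpr ⟨hfin.mem_toFinset.mpr hq, hqm⟩) ?_
          rw [show q = (l.toFun 0).1.asIdeal from congrArg (fun z : PrimeSpectrum.zeroLocus (J : Set A) => z.1.asIdeal) he]
          exact (l.toFun 0).2 (Ideal.mem_sup_right (Ideal.mem_span_singleton_self x₀))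
        have h1 : ((l'.cons q₀ hlt).length : WithBot ℕ∞) ≤ ((d + 1 : ℕ) : WithBot ℕ∞) :=
          le_trans (Order.LTSeries.length_le_krullDim _) hJ
        simp only [RelSeries.cons_length] at h1
        have h2 : l.length + 1 ≤ d + 1 := by exact_mod_cast h1
        exact_mod_cast (show l.length ≤ d by omega))
    refine ⟨Fin.cons x₀ x, Fin.cases hx₀ hx, fun p hJp hp => hxp p (sup_le hJp ?_) ?_⟩
    · exact (Ideal.span_singleton_le_iff_mem _).mpr (hp (Ideal.subset_span ⟨0, by simp⟩))
    · refine Ideal.span_le.mpr ?_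
      rintro _ ⟨i, rfl⟩
      exact hp (Ideal.subset_span ⟨i.succ, by simp⟩)

theorem natDegree_le_of_params (M : Type u) [AddCommGroup M] [Module A M] [Module.Finite A M] (R : ℚ[X])
    (hR : EvPoly (hs (Ring.jacobson A) M) R) {s : ℕ} (x : Fin s → A) (hx : ∀ i, x i ∈ Ring.jacobson A)
    (hmax : MaxSupp (Ideal.span (Set.range x)) M) : R.natDegree ≤ s := by
  obtain ⟨R', hR'd, hR'⟩ := exists_poly x hmax
  refine (natDegree_le_of_eventually_le hR hR' (Eventually.of_forall fun t => ?_)).trans hR'd
  have hle : Ideal.span (Set.range x) ^ t • (⊤ : Submodule A M) ≤ Ring.jacobson A ^ t • ⊤ :=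
    Submodule.smul_mono (Ideal.pow_right_mono (Ideal.span_le.mpr (by rintro _ ⟨i, rfl⟩; exact hx i)) t) le_rfl
  exact ENat.toNat_le_toNat (Module.length_le_of_surjective (Submodule.factor hle) (Submodule.factor_surjective hle))
    (length_quot_ne_top hmax le_rfl)

theorem exists_params_module (M : Type u) [AddCommGroup M] [Module A M] [Module.Finite A M] {d : ℕ}
    (hd : Module.supportDim A M ≤ (d : WithBot ℕ∞)) :
    ∃ x : Fin d → A, (∀ i, x i ∈ Ring.jacobson A) ∧ MaxSupp (Ideal.span (Set.range x)) M := by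
  rw [Module.supportDim_eq_ringKrullDim_quotient_annihilator] at hd
  obtain ⟨x, hx, hxp⟩ := exists_params d _ hd
  exact ⟨x, hx, fun p hp hle => hxp p (Module.annihilator_le_of_mem_support hp) hle⟩

theorem supportDim_eq (M : Type u) [AddCommGroup M] [Module A M] [Module.Finite A M] [Nontrivial M] (R : ℚ[X])
    (hR : EvPoly (hs (Ring.jacobson A) M) R) : (R.natDegree : WithBot ℕ∞) = Module.supportDim A M := by
  have h1 := supportDim_le_natDegree M R hR
  refine le_antisymm ?_ h1
  have h0 := (Module.supportDim_ne_bot_iff_nontrivial A M).2 ‹_›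
  obtain ⟨d, hd⟩ := WithBot.ne_bot_iff_exists.mp h0
  rw [← hd] at h1 ⊢
  have hdtop : d ≠ ⊤ := by
    rintro rfl
    exact absurd (WithBot.coe_le_coe.mp h1) (by simp)
  obtain ⟨d, rfl⟩ := ENat.ne_top_iff_exists.mp hdtop
  obtain ⟨x, hx, hmax⟩ := exists_params_module M (d := d) hd.ge
  exact_mod_cast natDegree_le_of_params M R hR x hx hmax

/-- The support of a module of finite length consists of maximal ideals. -/
theorem isMaximal_of_isFiniteLength {N : Type u} [AddCommGroup N] [Module A N] [Module.Finite A N]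
    (h : IsFiniteLength A N) {p : PrimeSpectrum A} (hp : p ∈ Module.support A N) : p.asIdeal.IsMaximal := by
  haveI : IsArtinian A N := (isFiniteLength_iff_isNoetherian_isArtinian.mp h).2
  obtain ⟨n, s, hs⟩ := Module.Finite.exists_fin (R := A) (M := N)
  let φ : A →ₗ[A] (Fin n → N) := LinearMap.pi fun i => LinearMap.toSpanSingleton A N (s i)
  have hker : LinearMap.ker φ ≤ Module.annihilator A N := by
    intro a ha
    rw [← Submodule.annihilator_top, ← hs, Submodule.annihilator_span, Submodule.mem_iInf]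
    rintro ⟨_, i, rfl⟩
    exact congrFun ha i
  have hle : (LinearMap.ker φ) ≤ p.asIdeal := hker.trans (Module.annihilator_le_of_mem_support hp)
  haveI : IsArtinian A (A ⧸ LinearMap.ker φ) := isArtinian_of_linearEquiv (LinearMap.quotKerEquivRange φ).symm
  haveI : IsArtinian A (A ⧸ p.asIdeal) :=
    isArtinian_of_surjective _ (Submodule.factor hle) (Submodule.factor_surjective hle)
  haveI : IsArtinianRing (A ⧸ p.asIdeal) := isArtinian_of_tower A this
  exact Ideal.Quotient.maximal_of_isField _ (IsArtinianRing.isField_of_isDomain _)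

end Groth.Agent.HSLib
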